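import Groth.Agent.Lib.FacDiv.Basic
import Groth.Agent.Lib.OrdOpen.Basic

/-!
# Orders of pulled back rational functions
-/

set_option autoImplicit false
set_option backward.isDefEq.respectTransparency false
set_option backward.isDefEq.respectTransparency.types false

universe u

open CategoryTheory AlgebraicGeometry GrothLib.Ref1 GrothLib.FacDiv

namespace GrothLib.WDivAff

variable {W X : Scheme.{u}} [IsIntegral W] [IsIntegral X]

/-- Pullback of rational functions along a dominant morphism of integral schemes. -/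
noncomputable def pullK (π : W ⟶ X) (h : π (genericPoint W) = genericPoint X) :
    X.functionField ⟶ W.functionField :=
  X.presheaf.stalkSpecializes (specializes_of_eq h) ≫ π.stalkMap (genericPoint W)

theorem pullK_spR (π : W ⟶ X) (h : π (genericPoint W) = genericPoint X) (y : W)
    (a : X.presheaf.stalk (π y)) :
    (pullK π h).hom (spR (hη (π y)) a : X.functionField) = spR (hη y) ((π.stalkMap y).hom a) := by
  show (X.presheaf.stalkSpecializes _ ≫ pullK π h).hom a =
    (π.stalkMap y ≫ W.presheaf.stalkSpecializes _).hom a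
  congr 2
  rw [pullK, TopCat.Presheaf.stalkSpecializes_comp_assoc, ← Scheme.Hom.stalkSpecializes_stalkMap]

theorem pullK_injective (π : W ⟶ X) (h : π (genericPoint W) = genericPoint X) :
    Function.Injective (pullK π h).hom :=
  (pullK π h).hom.injective

variable [IsLocallyNoetherian W] [IsLocallyNoetherian X]

theorem ordg_spR_eq_one {z : W} (hz : Order.coheight z = 1) {a : W.presheaf.stalk z} (ha : a ≠ 0)
    (hmax : IsLocalRing.maximalIdeal (W.presheaf.stalk z) = Ideal.span {a}) :
    ordg (spR (hη z) a) z = 1 := by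
  have : Ring.KrullDimLE 1 (W.presheaf.stalk z) := krullDimLE_of_coheight_le hz.le
  have hma := mem_nonZeroDivisors_of_ne_zero ha
  have hord : Ring.ord (W.presheaf.stalk z) a = 1 := by
    rw [Ring.ord, Module.length_eq_one_iff]
    have hM : (Ideal.span {a}).IsMaximal := hmax ▸ IsLocalRing.maximalIdeal.isMaximal _
    rw [isSimpleModule_iff_isSimpleModule_of_algebraMap_surjective
      (S := W.presheaf.stalk z ⧸ Ideal.span {a}) Ideal.Quotient.mk_surjective]
    let := Ideal.Quotient.field (Ideal.span {a})
    exact instIsSimpleModule _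
  refine (Scheme.ord_eq_iff hz (isUnit_spR ha).ne_zero).2 ?_
  change Ring.ordFrac (W.presheaf.stalk z) (algebraMap (W.presheaf.stalk z) W.functionField a) = _
  rw [Ring.ordFrac_eq_ord _ ha, Ring.ordMonoidWithZeroHom_eq_ord hma, hord]
  rfl

theorem one_le_ordg_spR {z : W} (hz : Order.coheight z = 1) {a w : W.presheaf.stalk z} (ha : a ≠ 0)
    (hmax : IsLocalRing.maximalIdeal (W.presheaf.stalk z) = Ideal.span {w})
    (hau : a ∈ IsLocalRing.maximalIdeal (W.presheaf.stalk z)) : 1 ≤ ordg (spR (hη z) a) z := by
  obtain ⟨b, rfl⟩ := Ideal.mem_span_singleton'.1 (hmax ▸ hau)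
  have hb := left_ne_zero_of_mul ha
  have hw := right_ne_zero_of_mul ha
  rw [map_mul, ordg_mul (isUnit_spR hb).ne_zero (isUnit_spR hw).ne_zero, ordg_spR_eq_one hz hw hmax]
  have := ordg_spR_nonneg hz b
  omega

/-- Orders are preserved where a uniformiser stays a uniformiser. -/
theorem ord_pullK (π : W ⟶ X) (h : π (genericPoint W) = genericPoint X) {y : W}
    (hy : Order.coheight y = 1) (hx : Order.coheight (π y) = 1)
    [IsDiscreteValuationRing (X.presheaf.stalk (π y))]
    (hm : IsLocalRing.maximalIdeal (W.presheaf.stalk y) ≤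
      (IsLocalRing.maximalIdeal (X.presheaf.stalk (π y))).map (π.stalkMap y).hom)
    (f : X.functionField) :
    Scheme.ord ((pullK π h).hom f) y = Scheme.ord f (π y) := by
  rcases eq_or_ne f 0 with rfl | hf
  · simp
  set R := X.presheaf.stalk (π y)
  obtain ⟨ϖ, hϖ⟩ := IsDiscreteValuationRing.exists_irreducible R
  have hinj : ∀ {a : R}, a ≠ 0 → (π.stalkMap y).hom a ≠ 0 := fun {a} ha he => by
    have h1 := pullK_spR π h y a
    rw [he, map_zero] at h1
    exact (isUnit_spR ha).ne_zero (pullK_injective π h (h1.trans (map_zero _).symm))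
  have hmX : IsLocalRing.maximalIdeal R = Ideal.span {ϖ} := hϖ.maximalIdeal_eq
  have hmW : IsLocalRing.maximalIdeal (W.presheaf.stalk y) = Ideal.span {(π.stalkMap y).hom ϖ} := by
    refine le_antisymm ?_ ?_
    · rw [hmX, Ideal.map_span, Set.image_singleton] at hm
      exact hm
    · rw [Ideal.span_le, Set.singleton_subset_iff]
      exact map_nonunit (π.stalkMap y).hom ϖ ((IsLocalRing.mem_maximalIdeal _).2 hϖ.not_isUnit)
  have key : ∀ a : R, a ≠ 0 →
      ordg (spR (hη y) ((π.stalkMap y).hom a)) y = ordg (spR (hη (π y)) a) (π y) := by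
    intro a ha
    obtain ⟨k, u, rfl⟩ := IsDiscreteValuationRing.eq_unit_mul_pow_irreducible ha hϖ
    have hu : IsUnit ((π.stalkMap y).hom (u : R)) := u.isUnit.map _
    have hw := hinj hϖ.ne_zero
    rw [map_mul, map_pow, map_mul, map_mul, map_pow, map_pow,
      ordg_mul (isUnit_spR u.ne_zero).ne_zero (pow_ne_zero _ (isUnit_spR hϖ.ne_zero).ne_zero),
      ordg_mul (isUnit_spR hu.ne_zero).ne_zero (pow_ne_zero _ (isUnit_spR hw).ne_zero),
      ordg_pow (isUnit_spR hϖ.ne_zero).ne_zero, ordg_pow (isUnit_spR hw).ne_zero,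
      ordg_spR_eq_one hx hϖ.ne_zero hmX, ordg_spR_eq_one hy hw hmW]
    rw [show ordg (spR (hη y) ((π.stalkMap y).hom (u : R))) y = 0 from ord_spR_of_isUnit hu,
      show ordg (spR (hη (π y)) (u : R)) (π y) = 0 from ord_spR_of_isUnit u.isUnit]
  obtain ⟨a, b, hb, rfl⟩ := IsFractionRing.div_surjective R f
  have hb0 : b ≠ 0 := nonZeroDivisors.ne_zero hb
  have ha0 : a ≠ 0 := fun e => hf (by rw [e, map_zero, zero_div])
  set f := algebraMap R X.functionField a / algebraMap R X.functionField b with hfdef
  have hbK : algebraMap R X.functionField b ≠ 0 := IsFractionRing.to_map_ne_zero_of_mem_nonZeroDivisors hb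
  have e1 : f * algebraMap R X.functionField b = algebraMap R X.functionField a := div_mul_cancel₀ _ hbK
  have e2 := congrArg (pullK π h).hom e1
  rw [map_mul] at e2
  have o1 := congrArg (fun t => Scheme.ord t (π y)) e1
  have o2 := congrArg (fun t => Scheme.ord t y) e2
  simp only at o1 o2
  rw [Scheme.ord_mul hf hbK] at o1
  rw [Scheme.ord_mul ((map_ne_zero_iff _ (pullK_injective π h)).2 hf)
    ((map_ne_zero_iff _ (pullK_injective π h)).2 hbK)] at o2
  have ka := key a ha0
  have kb := key b hb0
  rw [show (pullK π h).hom (algebraMap R X.functionField b) = spR (hη y) ((π.stalkMap y).hom b) from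
      pullK_spR π h y b,
    show (pullK π h).hom (algebraMap R X.functionField a) = spR (hη y) ((π.stalkMap y).hom a) from
      pullK_spR π h y a] at o2
  change _ + ordg (spR (hη y) _) y = ordg (spR (hη y) _) y at o2
  change _ + ordg (spR (hη (π y)) b) (π y) = ordg (spR (hη (π y)) a) (π y) at o1
  omega

/-- A pulled back function has order zero over the generic point. -/
theorem ord_pullK_of_generic (π : W ⟶ X) (h : π (genericPoint W) = genericPoint X) {y : W}
    (hy : π y = genericPoint X) {f : X.functionField} (hf : f ≠ 0) :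
    Scheme.ord ((pullK π h).hom f) y = 0 := by
  haveI := OrdOpen.isIso_stalkSpecializes_of_eq (Y := X) (hη (π y)) hy.symm
  obtain ⟨a, rfl⟩ := (ConcreteCategory.bijective_of_isIso (X.presheaf.stalkSpecializes (hη (π y)))).2 f
  have ha : a ≠ 0 := fun e => hf (by rw [e]; exact map_zero _)
  have hau : IsUnit a := by
    have := (isUnit_of_ne_zero (X := X) hf).map (inv (X.presheaf.stalkSpecializes (hη (π y)))).hom
    rwa [← CommRingCat.comp_apply, IsIso.hom_inv_id, CommRingCat.id_apply] at this
  show Scheme.ord ((pullK π h).hom (spR (hη (π y)) a : X.functionField)) y = 0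
  rw [pullK_spR]
  exact ord_spR_of_isUnit (hau.map _)

end GrothLib.WDivAff
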