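import Mathlib

/-!
# Height one primes of polynomial rings over noetherian domains
-/

set_option linter.style.header false

universe u

open MvPolynomial

namespace GrothLib.WDivAff

variable {n : Type u} {A : Type u} [CommRing A]

theorem isPrime_map_C (p : Ideal A) [p.IsPrime] : (p.map (C : A →+* MvPolynomial n A)).IsPrime := by
  rw [← Ideal.Quotient.isDomain_iff_prime]
  exact (quotientEquivQuotientMvPolynomial p).symm.toMulEquiv.isDomain _

theorem comap_map_C (p : Ideal A) : (p.map (C : A →+* MvPolynomial n A)).comap C = p := by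
  refine le_antisymm (fun x hx => ?_) Ideal.le_comap_map
  have := mem_map_C_iff.1 (Ideal.mem_comap.1 hx) 0
  rwa [coeff_zero_C] at this

variable [Finite n] [IsDomain A] [IsNoetherianRing A]

/-- A height one prime meeting the base is extended from a height one prime. -/
theorem eq_map_C {Q : Ideal (MvPolynomial n A)} [Q.IsPrime] (hQ : Q.height = 1) (h : Q.comap C ≠ ⊥) :
    (Q.comap (C : A →+* MvPolynomial n A)).height = 1 ∧ Q = (Q.comap C).map C := by
  have hmap : ∀ q : Ideal A, q.IsPrime → q ≠ ⊥ → q ≤ Q.comap C → q.map C = Q := by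
    intro q hq hq0 hle
    haveI := isPrime_map_C (n := n) q
    have hle' : q.map C ≤ Q := Ideal.map_le_iff_le_comap.2 hle
    refine hle'.eq_of_not_lt fun hlt => ?_
    have h1 := Ideal.height_strict_mono_of_isPrime_of_isPrime hlt
    rw [hQ, Order.lt_one_iff, Ideal.height_eq_zero_iff_eq_bot] at h1
    exact hq0 ((Ideal.map_eq_bot_iff_of_injective (C_injective n A)).1 h1)
  refine ⟨le_antisymm ?_ (Order.one_le_iff_pos.2 ?_), (hmap _ inferInstance h le_rfl).symm⟩
  · obtain ⟨x, hx, hx0⟩ := Submodule.exists_mem_ne_zero_of_ne_bot h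
    obtain ⟨q, hq, hle⟩ := Ideal.exists_minimalPrimes_le ((Ideal.span_singleton_le_iff_mem (I := Q.comap C)).2 hx)
    haveI : q.IsPrime := hq.1.1
    have hq0 : q ≠ ⊥ := fun h0 => hx0 (by
      have h2 := hq.1.2 (Ideal.mem_span_singleton_self x)
      rwa [h0, Ideal.mem_bot] at h2)
    have e : q = Q.comap C := by
      have e1 := congrArg (Ideal.comap (C : A →+* MvPolynomial n A)) (hmap q inferInstance hq0 hle)
      rwa [comap_map_C] at e1
    rw [← e]
    exact Ideal.height_le_one_of_isPrincipal_of_mem_minimalPrimes (Ideal.span {x}) q hq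
  · rw [pos_iff_ne_zero, Ne, Ideal.height_eq_zero_iff_eq_bot]
    exact h

section Generic

variable [DecidableEq n]

/-- The nonzero constants. -/
noncomputable abbrev constM (n A : Type u) [CommRing A] : Submonoid (MvPolynomial n A) :=
  (nonZeroDivisors A).map (C : A →+* MvPolynomial n A)

omit [Finite n] [IsNoetherianRing A] [DecidableEq n] in
theorem constM_le : constM n A ≤ nonZeroDivisors (MvPolynomial n A) := by
  rintro _ ⟨a, ha, rfl⟩
  exact mem_nonZeroDivisors_of_ne_zero ((map_ne_zero_iff _ (C_injective n A)).2 (nonZeroDivisors.ne_zero ha))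

omit [Finite n] [IsNoetherianRing A] [DecidableEq n] in
theorem disjoint_constM {Q : Ideal (MvPolynomial n A)} (h : Q.comap C = ⊥) :
    Disjoint (constM n A : Set (MvPolynomial n A)) (Q : Set (MvPolynomial n A)) := by
  rw [Set.disjoint_left]
  rintro _ ⟨a, ha, rfl⟩ hx
  have h2 : a ∈ Q.comap (C : A →+* MvPolynomial n A) := hx
  rw [h, Ideal.mem_bot] at h2
  exact nonZeroDivisors.ne_zero ha h2

/-- A horizontal height one prime is generically principal. -/
theorem horiz_gen {Q : Ideal (MvPolynomial n A)} [hQp : Q.IsPrime] (h1 : Q.height = 1) (h0 : Q.comap C = ⊥) :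
    ∃ π ∈ Q, π ≠ 0 ∧ ∀ a ∈ Q, ∃ s : A, s ≠ 0 ∧ π ∣ C s * a := by
  let M := constM n A
  let C' := MvPolynomial n (FractionRing A)
  letI : Algebra (MvPolynomial n A) C' := algebraMvPolynomial
  haveI : IsLocalization M C' := MvPolynomial.isLocalization _ _
  have hd := disjoint_constM (n := n) h0
  let q : Ideal C' := Q.map (algebraMap (MvPolynomial n A) C')
  haveI : q.IsPrime := IsLocalization.isPrime_of_isPrime_disjoint M C' Q hQp hd
  have hqQ : q.under (MvPolynomial n A) = Q := IsLocalization.comap_map_of_isPrime_disjoint M C' hQp hd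
  have hq1 : q.height = 1 := by rw [← IsLocalization.height_under M q, hqQ, h1]
  obtain ⟨p, hpq, hp⟩ := Ideal.IsPrime.exists_mem_prime_of_ne_bot (inferInstance : q.IsPrime)
    (q.ne_bot_of_height_eq_one hq1)
  have hqp : Ideal.span {p} = q := by
    haveI : (Ideal.span {p}).IsPrime := (Ideal.span_singleton_prime hp.ne_zero).mpr hp
    refine ((Ideal.span_singleton_le_iff_mem (I := q)).2 hpq).eq_of_not_lt fun hlt => ?_
    have h2 := Ideal.height_strict_mono_of_isPrime_of_isPrime hlt
    rw [hq1, Order.lt_one_iff, Ideal.height_eq_zero_iff_eq_bot, Ideal.span_singleton_eq_bot] at h2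
    exact hp.ne_zero h2
  obtain ⟨⟨π, s₀⟩, hπ⟩ := IsLocalization.surj M p
  have hπQ : π ∈ Q := by
    rw [← hqQ]
    exact Ideal.mem_comap.2 (hπ ▸ q.mul_mem_right _ hpq)
  refine ⟨π, hπQ, fun e => ?_, fun a ha => ?_⟩
  · rw [show ((π, s₀) : MvPolynomial n A × M).1 = π from rfl, e, map_zero] at hπ
    exact mul_ne_zero hp.ne_zero (IsLocalization.map_units C' s₀).ne_zero hπ
  · obtain ⟨b, hb⟩ := Ideal.mem_span_singleton'.1 (hqp.ge (Ideal.mem_map_of_mem _ ha))
    obtain ⟨⟨b₁, t⟩, hb₁⟩ := IsLocalization.surj M b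
    obtain ⟨r, hr, hrt⟩ := (s₀ * t : M).2
    refine ⟨r, nonZeroDivisors.ne_zero hr, b₁, ?_⟩
    apply IsLocalization.injective C' (constM_le (n := n) (A := A))
    rw [hrt, map_mul, map_mul, Submonoid.coe_mul, map_mul, ← hb, ← hb₁, ← hπ]
    ring

/-- A fraction of polynomials is a constant or has a zero or pole at a horizontal height one prime. -/
theorem horiz_dichotomy {a b : MvPolynomial n A} (ha : a ≠ 0) (hb : b ≠ 0) :
    (∃ (Q : Ideal (MvPolynomial n A)) (a₁ b₁ : MvPolynomial n A), Q.IsPrime ∧ Q.height = 1 ∧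
      Q.comap C = ⊥ ∧ a * b₁ = b * a₁ ∧ ((a₁ ∈ Q ∧ b₁ ∉ Q) ∨ (a₁ ∉ Q ∧ b₁ ∈ Q))) ∨
    ∃ r s : A, r ≠ 0 ∧ s ≠ 0 ∧ a * C s = b * C r := by
  let M := constM n A
  let C' := MvPolynomial n (FractionRing A)
  letI : Algebra (MvPolynomial n A) C' := algebraMvPolynomial
  haveI : IsLocalization M C' := MvPolynomial.isLocalization _ _
  have hinj : Function.Injective (algebraMap (MvPolynomial n A) C') :=
    IsLocalization.injective C' (constM_le (n := n) (A := A))
  obtain ⟨α, β, c, hrel, hα, hβ⟩ := UniqueFactorizationMonoid.exists_reduced_factors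
    (algebraMap (MvPolynomial n A) C' a) ((map_ne_zero_iff _ hinj).2 ha) (algebraMap (MvPolynomial n A) C' b)
  have hc : c ≠ 0 := fun e => (map_ne_zero_iff _ hinj).2 ha (by rw [← hα, e, zero_mul])
  have hα0 : α ≠ 0 := fun e => (map_ne_zero_iff _ hinj).2 ha (by rw [← hα, e, mul_zero])
  have hβ0 : β ≠ 0 := fun e => (map_ne_zero_iff _ hinj).2 hb (by rw [← hβ, e, mul_zero])
  by_cases hu : IsUnit α ∧ IsUnit β
  · right
    obtain ⟨x, hxu, hx⟩ := (MvPolynomial.isUnit_iff_eq_C_of_isReduced).1 hu.1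
    obtain ⟨y, hyu, hy⟩ := (MvPolynomial.isUnit_iff_eq_C_of_isReduced).1 hu.2
    obtain ⟨r, s, hs, hrs⟩ := IsFractionRing.div_surjective A (x / y)
    have hs0 : algebraMap A (FractionRing A) s ≠ 0 := IsFractionRing.to_map_ne_zero_of_mem_nonZeroDivisors hs
    refine ⟨r, s, fun e => div_ne_zero hxu.ne_zero hyu.ne_zero ?_, nonZeroDivisors.ne_zero hs, hinj ?_⟩
    · rw [← hrs, e, map_zero, zero_div]
    have e1 : x * algebraMap A (FractionRing A) s = y * algebraMap A (FractionRing A) r := by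
      rw [div_eq_iff hs0] at hrs
      rw [hrs]
      have := hyu.ne_zero
      field_simp
    rw [map_mul, map_mul, ← hα, ← hβ, hx, hy, algebraMap_def, map_C, map_C, mul_assoc, mul_assoc, ← map_mul,
      ← map_mul, e1]
  · left
    obtain ⟨p, hp, hcase⟩ : ∃ p : C', Prime p ∧ ((p ∣ α ∧ ¬ p ∣ β) ∨ (¬ p ∣ α ∧ p ∣ β)) := by
      rcases not_and_or.1 hu with h | h
      · obtain ⟨i, hi, hdvd⟩ := WfDvdMonoid.exists_irreducible_factor h hα0
        exact ⟨i, hi.prime, Or.inl ⟨hdvd, fun h' => hi.not_isUnit (hrel hdvd h')⟩⟩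
      · obtain ⟨i, hi, hdvd⟩ := WfDvdMonoid.exists_irreducible_factor h hβ0
        exact ⟨i, hi.prime, Or.inr ⟨fun h' => hi.not_isUnit (hrel h' hdvd), hdvd⟩⟩
    haveI hqp : (Ideal.span {p}).IsPrime := (Ideal.span_singleton_prime hp.ne_zero).mpr hp
    have hq1 : (Ideal.span {p}).height = 1 := by
      refine le_antisymm (Ideal.height_le_one_of_isPrincipal_of_mem_minimalPrimes (Ideal.span {p}) _
        (by rw [Ideal.minimalPrimes_eq_subsingleton_self]; rfl)) (Order.one_le_iff_pos.2 ?_)
      rw [pos_iff_ne_zero, Ne, Ideal.height_eq_zero_iff_eq_bot, Ideal.span_singleton_eq_bot]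
      exact hp.ne_zero
    obtain ⟨⟨a', s⟩, hs⟩ := IsLocalization.surj M α
    obtain ⟨⟨b', t⟩, ht⟩ := IsLocalization.surj M β
    refine ⟨(Ideal.span {p}).under (MvPolynomial n A), a' * (t : MvPolynomial n A), b' * (s : MvPolynomial n A),
      Ideal.comap_isPrime _ _, by rw [IsLocalization.height_under M, hq1], ?_, hinj ?_, ?_⟩
    · refine (Submodule.eq_bot_iff _).2 fun z hz => by_contra fun hz0 => hqp.ne_top (Ideal.eq_top_of_isUnit_mem _
        (Ideal.mem_comap.1 (Ideal.mem_comap.1 hz)) ?_)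
      exact IsLocalization.map_units C' (⟨C z, ⟨z, mem_nonZeroDivisors_of_ne_zero hz0, rfl⟩⟩ : M)
    · simp only [map_mul, ← hs, ← ht, ← hα, ← hβ]
      ring
    · have key : ∀ (z : C') (w : MvPolynomial n A) (u v : M),
          z * algebraMap (MvPolynomial n A) C' (u : MvPolynomial n A) = algebraMap (MvPolynomial n A) C' w →
          (w * (v : MvPolynomial n A) ∈ (Ideal.span {p}).under (MvPolynomial n A) ↔ p ∣ z) := by
        intro z w u v e
        rw [Ideal.under, Ideal.mem_comap, map_mul, ← e, Ideal.mem_span_singleton,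
          (IsLocalization.map_units C' v).dvd_mul_right, (IsLocalization.map_units C' u).dvd_mul_right]
      rw [key α a' s t hs, key β b' t s ht]
      exact hcase

end Generic

end GrothLib.WDivAff
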