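import Groth.Agent.Lib.WDivAff.Order
import Groth.Agent.Lib.WDivAff.Alg
import Groth.Agent.Lib.PicAff26.Chart
import Mathlib.AlgebraicGeometry.Morphisms.QuasiCompact
import Groth.Agent.Lib.FacDiv.Cartier

/-!
# Divisors on affine space over a scheme regular in codimension one
-/

set_option autoImplicit false
set_option backward.isDefEq.respectTransparency false
set_option backward.isDefEq.respectTransparency.types false

universe u

open CategoryTheory CategoryTheory.Limits Opposite AlgebraicGeometry TopologicalSpace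
open GrothLib GrothLib.Ref1 GrothLib.FacDiv GrothLib.PicAff26

noncomputable section

namespace GrothLib.WDivAff

section Ord

variable {W : Scheme.{u}} [IsIntegral W] [IsLocallyNoetherian W]

theorem ord_one' (y : W) : Scheme.ord (1 : W.functionField) y = 0 := ordg_one y

theorem ord_zpow' {f : W.functionField} (hf : f ≠ 0) (y : W) (k : ℤ) :
    Scheme.ord (f ^ k) y = k * Scheme.ord f y := by
  induction k using Int.induction_on with
  | zero => rw [zpow_zero, ord_one', zero_mul]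
  | succ k ih => rw [zpow_add_one₀ hf, Scheme.ord_mul (zpow_ne_zero _ hf) hf, ih]; ring
  | pred k ih =>
    have h := Scheme.ord_mul (x := y) (zpow_ne_zero (-(k : ℤ) - 1) hf) hf
    rw [← zpow_add_one₀ hf, sub_add_cancel, ih] at h
    linarith

theorem ord_prod' {ι : Type*} (S : Finset ι) (f : ι → W.functionField) (hf : ∀ i ∈ S, f i ≠ 0) (y : W) :
    Scheme.ord (∏ i ∈ S, f i) y = ∑ i ∈ S, Scheme.ord (f i) y := by
  classical
  induction S using Finset.induction_on with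
  | empty => rw [Finset.prod_empty, Finset.sum_empty, ord_one']
  | insert a S ha ih =>
    rw [Finset.prod_insert ha, Finset.sum_insert ha, Scheme.ord_mul (hf a (Finset.mem_insert_self a S))
      (Finset.prod_ne_zero_iff.2 fun i hi => hf i (Finset.mem_insert_of_mem hi)),
      ih fun i hi => hf i (Finset.mem_insert_of_mem hi)]

theorem finite_ord_support [CompactSpace W] {g : W.functionField} (hg : g ≠ 0) :
    {y : W | Order.coheight y = 1 ∧ Scheme.ord g y ≠ 0}.Finite := by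
  choose V hV hxV _ using fun x : W =>
    exists_isAffineOpen_mem_and_subset (show x ∈ (⊤ : W.Opens) from trivial)
  obtain ⟨s, hs⟩ := isCompact_univ.elim_finite_subcover (fun x => (V x : Set W)) (fun x => (V x).2)
    fun x _ => Set.mem_iUnion.2 ⟨x, hxV x⟩
  refine (Set.Finite.biUnion s.finite_toSet fun x _ => finite_ord_ne_zero (hV x) hg).subset ?_
  intro y hy
  obtain ⟨x, hx, hyx⟩ := Set.mem_iUnion₂.1 (hs (Set.mem_univ y))
  exact Set.mem_biUnion hx ⟨hyx, hy⟩

theorem height_primeIdealOf {B : W.Opens} (hB : IsAffineOpen B) {x : W} (hx : x ∈ B) :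
    ((hB.primeIdealOf ⟨x, hx⟩).asIdeal.height : ℕ∞) = Order.coheight x := by
  letI := W.presheaf.algebra_section_stalk (⟨x, hx⟩ : B)
  haveI := hB.isLocalization_stalk ⟨x, hx⟩
  have h := IsLocalization.AtPrime.ringKrullDim_eq_height (hB.primeIdealOf ⟨x, hx⟩).asIdeal
    (W.presheaf.stalk x)
  rw [ringKrullDim_stalk_eq_coheight x] at h
  exact (WithBot.coe_injective h).symm

theorem coheight_genericPoint : Order.coheight (genericPoint W) = 0 :=
  Order.coheight_eq_zero.2 (isMax_top (α := W))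

end Ord

variable {n : Type u} [Finite n] {X : Scheme.{u}}

/-- The chart homomorphism to a stalk. -/
def tg {B : X.Opens} (hB : IsAffineOpen B) {y : 𝔸(n; X)} (hy : y ∈ tOpen n B) :
    MvPolynomial n Γ(X, B) →+* (𝔸(n; X)).presheaf.stalk y :=
  ((𝔸(n; X)).presheaf.germ (tOpen n B) y hy).hom.comp (coordEquiv hB).symm.toRingHom

variable {B : X.Opens} (hB : IsAffineOpen B) {y : 𝔸(n; X)} (hy : y ∈ tOpen n B)

theorem tg_isUnit {a : MvPolynomial n Γ(X, B)} : IsUnit (tg hB hy a) ↔ a ∉ primeOf hB hy := by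
  letI := (𝔸(n; X)).presheaf.algebra_section_stalk (⟨y, hy⟩ : tOpen n B)
  haveI := (isAffineOpen_tOpen (n := n) hB).isLocalization_stalk ⟨y, hy⟩
  exact IsLocalization.AtPrime.isUnit_to_map_iff ((𝔸(n; X)).presheaf.stalk y)
    ((isAffineOpen_tOpen hB).primeIdealOf ⟨y, hy⟩).asIdeal ((coordEquiv hB).symm a)

theorem maximalIdeal_eq : IsLocalRing.maximalIdeal ((𝔸(n; X)).presheaf.stalk y) = (primeOf hB hy).map (tg hB hy) := by
  letI := (𝔸(n; X)).presheaf.algebra_section_stalk (⟨y, hy⟩ : tOpen n B)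
  haveI := (isAffineOpen_tOpen (n := n) hB).isLocalization_stalk ⟨y, hy⟩
  have hs : Function.Surjective (coordEquiv (n := n) hB).symm.toRingHom := (coordEquiv hB).symm.surjective
  rw [← IsLocalization.AtPrime.map_eq_maximalIdeal ((isAffineOpen_tOpen hB).primeIdealOf ⟨y, hy⟩).asIdeal
    ((𝔸(n; X)).presheaf.stalk y), primeOf, tg, ← Ideal.map_map, Ideal.map_comap_of_surjective _ hs]
  rfl

theorem tg_C (r : Γ(X, B)) : tg hB hy (MvPolynomial.C r) =
    ((𝔸(n; X) ↘ X).stalkMap y).hom ((X.presheaf.germ B ((𝔸(n; X) ↘ X) y) hy).hom r) := by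
  show ((𝔸(n; X)).presheaf.germ (tOpen n B) y hy).hom ((coordEquiv hB).symm (MvPolynomial.C r)) = _
  rw [coordEquiv_symm_C]
  exact ((𝔸(n; X) ↘ X).germ_stalkMap_apply B y hy r).symm

theorem comap_primeOf : (primeOf hB hy).comap MvPolynomial.C =
    (hB.primeIdealOf ⟨(𝔸(n; X) ↘ X).base y, hy⟩).asIdeal :=
  Ideal.ext fun a => comap_C_primeOf hB hy a

theorem pointOf_primeOf : pointOf hB (primeOf hB hy) = y := by
  refine Eq.trans ?_ ((isAffineOpen_tOpen hB).fromSpec_primeIdealOf ⟨y, hy⟩)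
  refine congrArg (isAffineOpen_tOpen hB).fromSpec (PrimeSpectrum.ext ?_)
  refine Ideal.ext fun a => ?_
  simp only [primeOf, Ideal.mem_comap, RingEquiv.toRingHom_eq_coe, RingEquiv.coe_toRingHom,
    RingEquiv.symm_apply_apply]

theorem eq_of_primeOf_eq {z : 𝔸(n; X)} (hz : z ∈ tOpen n B) (h : primeOf hB hy = primeOf hB hz) : y = z := by
  rw [← pointOf_primeOf hB hy, ← pointOf_primeOf hB hz]
  simp only [h]

/-- A prime extended from the base keeps the uniformiser. -/
theorem maximalIdeal_le (hQ : primeOf hB hy =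
    (hB.primeIdealOf ⟨(𝔸(n; X) ↘ X).base y, hy⟩).asIdeal.map MvPolynomial.C) :
    IsLocalRing.maximalIdeal ((𝔸(n; X)).presheaf.stalk y) ≤
      (IsLocalRing.maximalIdeal (X.presheaf.stalk ((𝔸(n; X) ↘ X) y))).map ((𝔸(n; X) ↘ X).stalkMap y).hom := by
  letI := X.presheaf.algebra_section_stalk (⟨(𝔸(n; X) ↘ X) y, hy⟩ : B)
  haveI := hB.isLocalization_stalk ⟨(𝔸(n; X) ↘ X) y, hy⟩
  rw [maximalIdeal_eq hB hy, hQ, Ideal.map_map, Ideal.map_le_iff_le_comap]
  intro r hr
  rw [Ideal.mem_comap, RingHom.comp_apply, tg_C]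
  refine Ideal.mem_map_of_mem _ ?_
  rw [IsLocalRing.mem_maximalIdeal, mem_nonunits_iff]
  exact fun hu => ((IsLocalization.AtPrime.isUnit_to_map_iff
    (X.presheaf.stalk ((𝔸(n; X) ↘ X) y)) _ r).1 hu) hr

variable [IsIntegral 𝔸(n; X)] [IsLocallyNoetherian 𝔸(n; X)]

theorem height_primeOf : ((primeOf hB hy).height : ℕ∞) = Order.coheight y := by
  rw [← height_primeIdealOf (isAffineOpen_tOpen hB) hy, primeOf]
  exact RingEquiv.height_comap _ _

theorem spR_tg [Nonempty (tOpen n B)] (a : MvPolynomial n Γ(X, B)) :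
    (spR (hη y) (tg hB hy a) : (𝔸(n; X)).functionField) =
      (𝔸(n; X)).germToFunctionField (tOpen n B) ((coordEquiv hB).symm a) :=
  (𝔸(n; X)).algebraMap_germ_eq_germToFunctionField hy ((coordEquiv hB).symm a)

variable [IsIntegral X] [IsLocallyNoetherian X]

omit [IsLocallyNoetherian X] [IsLocallyNoetherian 𝔸(n; X)] in
theorem primeIdealOf_eq_bot {x : X} (hx : x ∈ B) :
    (hB.primeIdealOf ⟨x, hx⟩).asIdeal = ⊥ ↔ x = genericPoint X := by
  have hη' : genericPoint X ∈ B := ((genericPoint_spec X).mem_open_set_iff B.2).mpr ⟨x, trivial, hx⟩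
  haveI : Nonempty B := ⟨⟨x, hx⟩⟩
  have eη : (hB.primeIdealOf ⟨genericPoint X, hη'⟩).asIdeal = ⊥ := by
    rw [IsAffineOpen.primeIdealOf_genericPoint hB]
    simp
  constructor
  · intro h0
    have : hB.primeIdealOf ⟨x, hx⟩ = hB.primeIdealOf ⟨genericPoint X, hη'⟩ := PrimeSpectrum.ext (h0.trans eη.symm)
    have := congrArg (fun q => hB.fromSpec q) this
    simpa [IsAffineOpen.fromSpec_primeIdealOf] using this
  · rintro rfl
    exact eη

theorem map_genericPoint :
    (𝔸(n; X) ↘ X) (genericPoint 𝔸(n; X)) = genericPoint X := by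
  obtain ⟨B, hB, hηB, -⟩ := exists_isAffineOpen_mem_and_subset (Opens.mem_top (genericPoint X))
  haveI : Nonempty B := ⟨⟨_, hηB⟩⟩
  haveI : IsNoetherianRing Γ(X, B) := IsLocallyNoetherian.component_noetherian ⟨B, hB⟩
  have hmem : genericPoint 𝔸(n; X) ∈ tOpen n B :=
    ((genericPoint_spec 𝔸(n; X)).mem_open_set_iff (tOpen n B).2).mpr
      ⟨pointOf hB (⊥ : Ideal (MvPolynomial n Γ(X, B))), trivial, pointOf_mem hB _⟩
  rw [← primeIdealOf_eq_bot hB (x := (𝔸(n; X) ↘ X) (genericPoint _)) hmem, ← comap_primeOf hB hmem]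
  haveI : Nonempty (tOpen n B) := ⟨⟨_, hmem⟩⟩
  have : primeOf hB hmem = ⊥ := by
    have h := height_primeOf hB hmem
    rw [coheight_genericPoint] at h
    exact Ideal.height_eq_zero_iff_eq_bot.1 h
  rw [this]
  exact (RingHom.injective_iff_ker_eq_bot _).1 (MvPolynomial.C_injective n Γ(X, B))

variable (n X) in
/-- The pullback of rational functions. -/
abbrev phi : X.functionField ⟶ (𝔸(n; X)).functionField :=
  pullK (𝔸(n; X) ↘ X) map_genericPoint

/-- A vertical point of codimension one. -/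
theorem vert {y : 𝔸(n; X)} (hy1 : Order.coheight y = 1) (hne : (𝔸(n; X) ↘ X) y ≠ genericPoint X)
    {B : X.Opens} (hB : IsAffineOpen B) (hy : y ∈ tOpen n B) :
    Order.coheight ((𝔸(n; X) ↘ X) y) = 1 ∧
      primeOf hB hy = (hB.primeIdealOf ⟨(𝔸(n; X) ↘ X).base y, hy⟩).asIdeal.map MvPolynomial.C := by
  haveI : Nonempty B := ⟨⟨_, hy⟩⟩
  haveI : IsNoetherianRing Γ(X, B) := IsLocallyNoetherian.component_noetherian ⟨B, hB⟩
  have h := eq_map_C (Q := primeOf hB hy) ((height_primeOf hB hy).trans hy1)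
    (fun e => hne ((primeIdealOf_eq_bot hB (x := (𝔸(n; X) ↘ X) y) hy).1 ((comap_primeOf hB hy).symm.trans e)))
  rw [comap_primeOf] at h
  exact ⟨(height_primeIdealOf hB (x := (𝔸(n; X) ↘ X) y) hy).symm.trans h.1, h.2⟩

theorem ord_phi_vert (hR1 : ∀ x : X, Order.coheight x = 1 → IsDiscreteValuationRing (X.presheaf.stalk x))
    {y : 𝔸(n; X)} (hy1 : Order.coheight y = 1) (hne : (𝔸(n; X) ↘ X) y ≠ genericPoint X)
    (f : X.functionField) : Scheme.ord ((phi n X).hom f) y = Scheme.ord f ((𝔸(n; X) ↘ X) y) := by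
  obtain ⟨B, hB, hy, -⟩ := exists_isAffineOpen_mem_and_subset (Opens.mem_top ((𝔸(n; X) ↘ X) y))
  obtain ⟨hx, hQ⟩ := vert hy1 hne hB hy
  haveI := hR1 _ hx
  exact ord_pullK _ map_genericPoint hy1 hx (maximalIdeal_le hB hy hQ) f

theorem vert_unique {y z : 𝔸(n; X)} (hy1 : Order.coheight y = 1) (hz1 : Order.coheight z = 1)
    (e : (𝔸(n; X) ↘ X) y = (𝔸(n; X) ↘ X) z) (hne : (𝔸(n; X) ↘ X) y ≠ genericPoint X) : y = z := by
  obtain ⟨B, hB, hy, -⟩ := exists_isAffineOpen_mem_and_subset (Opens.mem_top ((𝔸(n; X) ↘ X) y))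
  have hz : z ∈ tOpen n B := show (𝔸(n; X) ↘ X) z ∈ B from e ▸ hy
  refine eq_of_primeOf_eq hB hy hz ?_
  rw [(vert hy1 hne hB hy).2, (vert hz1 (e ▸ hne) hB hz).2]
  congr 3
  exact Subtype.ext e

theorem exists_vert (hR1 : ∀ x : X, Order.coheight x = 1 → IsDiscreteValuationRing (X.presheaf.stalk x))
    {x : X} (hx : Order.coheight x = 1) :
    ∃ y : 𝔸(n; X), Order.coheight y = 1 ∧ (𝔸(n; X) ↘ X) y = x := by
  obtain ⟨B, hB, hxB, -⟩ := exists_isAffineOpen_mem_and_subset (Opens.mem_top x)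
  haveI : Nonempty B := ⟨⟨_, hxB⟩⟩
  let q := (hB.primeIdealOf ⟨x, hxB⟩).asIdeal
  haveI := isPrime_map_C (n := n) q
  let y := pointOf hB (q.map (MvPolynomial.C : Γ(X, B) →+* MvPolynomial n Γ(X, B)))
  have hy : y ∈ tOpen n B := pointOf_mem hB _
  have hQ : primeOf hB hy = q.map MvPolynomial.C := primeOf_pointOf hB _
  have hq : (hB.primeIdealOf ⟨(𝔸(n; X) ↘ X).base y, hy⟩).asIdeal = q := by
    rw [← comap_primeOf hB hy, hQ, comap_map_C]
  have hyx : (𝔸(n; X) ↘ X) y = x := by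
    have h := congrArg (fun p => hB.fromSpec p) (PrimeSpectrum.ext hq :
      hB.primeIdealOf ⟨(𝔸(n; X) ↘ X).base y, hy⟩ = hB.primeIdealOf ⟨x, hxB⟩)
    simpa [IsAffineOpen.fromSpec_primeIdealOf] using h
  refine ⟨y, le_antisymm ?_ ?_, hyx⟩
  · haveI := hR1 _ (hyx.symm ▸ hx : Order.coheight ((𝔸(n; X) ↘ X) y) = 1)
    obtain ⟨ϖ, hϖ⟩ := IsDiscreteValuationRing.exists_irreducible (X.presheaf.stalk ((𝔸(n; X) ↘ X) y))
    have hle := maximalIdeal_le hB hy (hQ.trans (by rw [hq]))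
    rw [hϖ.maximalIdeal_eq, Ideal.map_span, Set.image_singleton] at hle
    have hmem : ((𝔸(n; X) ↘ X).stalkMap y).hom ϖ ∈ IsLocalRing.maximalIdeal ((𝔸(n; X)).presheaf.stalk y) :=
      map_nonunit _ ϖ ((IsLocalRing.mem_maximalIdeal _).2 hϖ.not_isUnit)
    have hle1 := Ideal.height_le_one_of_isPrincipal_of_mem_minimalPrimes
      (Ideal.span {((𝔸(n; X) ↘ X).stalkMap y).hom ϖ}) (IsLocalRing.maximalIdeal _)
      ⟨⟨inferInstance, (Ideal.span_singleton_le_iff_mem _).2 hmem⟩, fun p hp _ => hle.trans hp.2⟩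
    have h := IsLocalRing.maximalIdeal_height_eq_ringKrullDim (R := (𝔸(n; X)).presheaf.stalk y)
    rw [ringKrullDim_stalk_eq_coheight y] at h
    exact (WithBot.coe_injective h) ▸ hle1
  · rw [← height_primeOf hB hy, hQ, Order.one_le_iff_pos, pos_iff_ne_zero, Ne, Ideal.height_eq_zero_iff_eq_bot,
      Ideal.map_eq_bot_iff_of_injective (MvPolynomial.C_injective n Γ(X, B))]
    intro e
    have h := height_primeIdealOf hB hxB
    rw [show (hB.primeIdealOf ⟨x, hxB⟩).asIdeal = ⊥ from e, Ideal.height_bot, hx] at h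
    exact zero_ne_one h

section Horizontal

variable [Nonempty (tOpen n B)]

/-- The chart homomorphism to rational functions. -/
def kP : MvPolynomial n Γ(X, B) →+* (𝔸(n; X)).functionField :=
  ((𝔸(n; X)).germToFunctionField (tOpen n B)).hom.comp (coordEquiv hB).symm.toRingHom

theorem kP_eq (a : MvPolynomial n Γ(X, B)) : kP hB a = spR (hη y) (tg hB hy a) := (spR_tg hB hy a).symm

theorem kP_injective : Function.Injective (kP (n := n) hB) :=
  (Scheme.germToFunctionField_injective 𝔸(n; X) (tOpen n B)).comp (coordEquiv hB).symm.injective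

theorem phi_kP [Nonempty B] (r : Γ(X, B)) :
    (phi n X).hom (X.germToFunctionField B r) = kP hB (MvPolynomial.C r) := by
  obtain ⟨⟨y, hy⟩⟩ := ‹Nonempty (tOpen n B)›
  rw [kP_eq hB hy, tg_C, ← pullK_spR _ map_genericPoint]
  exact congrArg _ (X.algebraMap_germ_eq_germToFunctionField (show (𝔸(n; X) ↘ X) y ∈ B from hy) r).symm

theorem ord_kP_of_not_mem {a : MvPolynomial n Γ(X, B)} (ha : a ∉ primeOf hB hy) :
    Scheme.ord (kP hB a) y = 0 := by
  rw [kP_eq hB hy]
  exact ord_spR_of_isUnit ((tg_isUnit hB hy).2 ha)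

theorem maximalIdeal_horiz (hy1 : Order.coheight y = 1) (hgen : (𝔸(n; X) ↘ X) y = genericPoint X) :
    ∃ π ∈ primeOf hB hy, π ≠ 0 ∧
      IsLocalRing.maximalIdeal ((𝔸(n; X)).presheaf.stalk y) = Ideal.span {tg hB hy π} ∧
      ∀ a ∈ primeOf hB hy, ∃ s : Γ(X, B), s ≠ 0 ∧ π ∣ MvPolynomial.C s * a := by
  classical
  haveI : Nonempty B := ⟨⟨_, hy⟩⟩
  haveI : IsNoetherianRing Γ(X, B) := IsLocallyNoetherian.component_noetherian ⟨B, hB⟩
  have h0 : (primeOf hB hy).comap MvPolynomial.C = ⊥ :=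
    (comap_primeOf hB hy).trans ((primeIdealOf_eq_bot hB (x := (𝔸(n; X) ↘ X) y) hy).2 hgen)
  obtain ⟨π, hπ, hπ0, hdvd⟩ := horiz_gen ((height_primeOf hB hy).trans hy1) h0
  refine ⟨π, hπ, hπ0, le_antisymm ?_ ?_, hdvd⟩
  · rw [maximalIdeal_eq hB hy, Ideal.map_le_iff_le_comap]
    intro a ha
    obtain ⟨s, hs, b, hb⟩ := hdvd a ha
    have hu : IsUnit (tg hB hy (MvPolynomial.C s)) := (tg_isUnit hB hy).2 fun h => hs (by
      have h' : s ∈ (primeOf hB hy).comap MvPolynomial.C := h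
      rwa [h0, Ideal.mem_bot] at h')
    rw [Ideal.mem_comap, Ideal.mem_span_singleton]
    have h := congrArg (tg hB hy) hb
    rw [map_mul, map_mul] at h
    exact hu.dvd_mul_left.1 ⟨_, h⟩
  · rw [Ideal.span_singleton_le_iff_mem, maximalIdeal_eq hB hy]
    exact Ideal.mem_map_of_mem _ hπ

theorem one_le_ord_kP (hy1 : Order.coheight y = 1) (hgen : (𝔸(n; X) ↘ X) y = genericPoint X)
    {a : MvPolynomial n Γ(X, B)} (ha0 : a ≠ 0) (ha : a ∈ primeOf hB hy) :
    1 ≤ Scheme.ord (kP hB a) y := by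
  obtain ⟨π, -, -, hmax, -⟩ := maximalIdeal_horiz hB hy hy1 hgen
  have h0 : tg hB hy a ≠ 0 := fun e => ha0 (kP_injective hB (by rw [kP_eq hB hy, e, map_zero, map_zero]))
  rw [kP_eq hB hy]
  refine one_le_ordg_spR hy1 h0 hmax ?_
  rw [maximalIdeal_eq hB hy]
  exact Ideal.mem_map_of_mem _ ha

include hB hy in
/-- A generic uniformiser of a horizontal divisor. -/
theorem exists_horiz_fun (hy1 : Order.coheight y = 1) (hgen : (𝔸(n; X) ↘ X) y = genericPoint X) :
    ∃ c : (𝔸(n; X)).functionField, c ≠ 0 ∧ Scheme.ord c y = 1 ∧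
      ∀ z : 𝔸(n; X), Order.coheight z = 1 → (𝔸(n; X) ↘ X) z = genericPoint X → z ≠ y →
        Scheme.ord c z = 0 := by
  obtain ⟨π, hπ, hπ0, hmax, hdvd⟩ := maximalIdeal_horiz hB hy hy1 hgen
  refine ⟨kP hB π, (map_ne_zero_iff _ (kP_injective hB)).2 hπ0, ?_, fun z hz1 hzgen hne => ?_⟩
  · have h0 : tg hB hy π ≠ 0 := fun e => hπ0 (kP_injective hB (by rw [kP_eq hB hy, e, map_zero, map_zero]))
    rw [kP_eq hB hy]
    exact ordg_spR_eq_one hy1 h0 hmax
  · have hz : z ∈ tOpen n B := by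
      show (𝔸(n; X) ↘ X) z ∈ B
      rw [hzgen, ← hgen]
      exact hy
    refine ord_kP_of_not_mem hB hz fun hmem => hne ?_
    have hle : primeOf hB hy ≤ primeOf hB hz := by
      intro a ha
      obtain ⟨s, hs, hd⟩ := hdvd a ha
      refine ((inferInstance : (primeOf hB hz).IsPrime).mem_or_mem (Ideal.mem_of_dvd _ hd hmem)).resolve_left
        fun h => hs ?_
      have h' : s ∈ (primeOf hB hz).comap MvPolynomial.C := h
      rwa [(comap_primeOf hB hz).trans ((primeIdealOf_eq_bot hB (x := (𝔸(n; X) ↘ X) z) hz).2 hzgen),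
        Ideal.mem_bot] at h'
    refine (eq_of_primeOf_eq hB hy hz (hle.eq_of_not_lt fun hlt => ?_)).symm
    haveI : IsNoetherianRing Γ(X, B) := IsLocallyNoetherian.component_noetherian ⟨B, hB⟩
    have h := Ideal.height_strict_mono_of_isPrime_of_isPrime hlt
    rw [height_primeOf, height_primeOf, hy1, hz1] at h
    exact lt_irrefl _ h

end Horizontal

/-- A function without horizontal zeros and poles comes from the base. -/
theorem exists_of_horiz_zero {g : (𝔸(n; X)).functionField} (hg : g ≠ 0)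
    (h : ∀ y : 𝔸(n; X), Order.coheight y = 1 → (𝔸(n; X) ↘ X) y = genericPoint X → Scheme.ord g y = 0) :
    ∃ f : X.functionField, f ≠ 0 ∧ (phi n X).hom f = g := by
  classical
  obtain ⟨B, hB, hηB, -⟩ := exists_isAffineOpen_mem_and_subset (Opens.mem_top (genericPoint X))
  haveI : Nonempty B := ⟨⟨_, hηB⟩⟩
  haveI : IsNoetherianRing Γ(X, B) := IsLocallyNoetherian.component_noetherian ⟨B, hB⟩
  haveI : Nonempty (tOpen n B) :=
    ⟨⟨pointOf hB (⊥ : Ideal (MvPolynomial n Γ(X, B))), pointOf_mem hB _⟩⟩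
  letI := polyAlgebra (n := n) hB
  haveI := isFractionRing_poly (n := n) hB
  obtain ⟨a, b, hb, he⟩ := IsFractionRing.div_surjective (MvPolynomial n Γ(X, B)) g
  have hb0 : b ≠ 0 := nonZeroDivisors.ne_zero hb
  have ha0 : a ≠ 0 := fun e => hg (by rw [← he, e, map_zero, zero_div])
  have hkb : kP (n := n) hB b ≠ 0 := (map_ne_zero_iff _ (kP_injective hB)).2 hb0
  have hga : g * kP hB b = kP hB a := by rw [← he]; exact div_mul_cancel₀ _ hkb
  rcases horiz_dichotomy ha0 hb0 with ⟨Q, a₁, b₁, hQ, hQ1, hQ0, e, hcase⟩ | ⟨r, s, hr, hs, e⟩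
  · exfalso
    haveI := hQ
    let y := pointOf hB Q
    have hy : y ∈ tOpen n B := pointOf_mem hB Q
    have hpQ : primeOf hB hy = Q := primeOf_pointOf hB Q
    have hy1 : Order.coheight y = 1 := by rw [← height_primeOf hB hy, hpQ, hQ1]
    have hgen : (𝔸(n; X) ↘ X) y = genericPoint X :=
      (primeIdealOf_eq_bot hB (x := (𝔸(n; X) ↘ X) y) hy).1 ((comap_primeOf hB hy).symm.trans (by rw [hpQ]; exact hQ0))
    have hb1 : b₁ ≠ 0 := by
      rintro rfl
      rcases hcase with ⟨-, hn⟩ | ⟨hn, -⟩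
      · exact hn Q.zero_mem
      · rw [mul_zero] at e
        exact hn ((mul_eq_zero.1 e.symm).resolve_left hb0 ▸ Q.zero_mem)
    have ha1 : a₁ ≠ 0 := by
      rintro rfl
      rw [mul_zero] at e
      exact mul_ne_zero ha0 hb1 e
    have hkb1 : kP (n := n) hB b₁ ≠ 0 := (map_ne_zero_iff _ (kP_injective hB)).2 hb1
    have hgab : g * kP hB b₁ = kP hB a₁ := mul_left_cancel₀ hkb (by
      rw [← mul_assoc, mul_comm (kP hB b) g, hga, ← map_mul, ← map_mul, e])
    have ho := congrArg (fun t => Scheme.ord t y) hgab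
    rw [Scheme.ord_mul hg hkb1, h y hy1 hgen, zero_add] at ho
    rw [← hpQ] at hcase
    rcases hcase with ⟨h1, h2⟩ | ⟨h1, h2⟩
    · have := one_le_ord_kP hB hy hy1 hgen ha1 h1
      rw [ord_kP_of_not_mem hB hy h2] at ho
      omega
    · have := one_le_ord_kP hB hy hy1 hgen hb1 h2
      rw [ord_kP_of_not_mem hB hy h1] at ho
      omega
  · have hi := Scheme.germToFunctionField_injective X B
    refine ⟨X.germToFunctionField B r / X.germToFunctionField B s,
      div_ne_zero ((map_ne_zero_iff _ hi).2 hr) ((map_ne_zero_iff _ hi).2 hs), ?_⟩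
    have hks : kP (n := n) hB (MvPolynomial.C s) ≠ 0 :=
      (map_ne_zero_iff _ (kP_injective hB)).2 ((map_ne_zero_iff _ (MvPolynomial.C_injective _ _)).2 hs)
    rw [map_div₀, phi_kP hB, phi_kP hB, div_eq_iff hks]
    refine mul_left_cancel₀ hkb ?_
    rw [← mul_assoc, mul_comm (kP hB b) g, hga, ← map_mul, ← map_mul, e]

end GrothLib.WDivAff
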